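import Groth.Agent.SmoothCartier.Basic
import Mathlib

/-!
Smooth effective Cartier divisors through a point of a scheme smooth over a base.
-/

set_option linter.style.haveILetI false

universe u

open CategoryTheory AlgebraicGeometry TensorProduct

namespace Groth.Agent.SmoothCartier

theorem smooth_appLE_of_smooth_ι {X S : Scheme.{u}} (f : X ⟶ S) (W : X.Opens) (hW : Smooth (W.ι ≫ f))
    {A : S.Opens} (hA : IsAffineOpen A) {V : X.Opens} (hV : IsAffineOpen V) (hVW : V ≤ W) (e : V ≤ f ⁻¹ᵁ A) :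
    (f.appLE A V e).hom.Smooth := by
  have hV' : IsAffineOpen (W.ι ⁻¹ᵁ V) := hV.preimage_of_isOpenImmersion W.ι (by
    rw [Scheme.Opens.opensRange_ι]; exact hVW)
  haveI := hW
  have h1 := (W.ι ≫ f).smooth_appLE hA hV' (show W.ι ⁻¹ᵁ V ≤ W.ι ⁻¹ᵁ f ⁻¹ᵁ A from fun x hx => e hx)
  rw [← Scheme.Hom.appLE_comp_appLE W.ι f A V (W.ι ⁻¹ᵁ V) e le_rfl, Scheme.Hom.appLE_eq_app] at h1
  haveI : IsIso (W.ι.app V) := Scheme.Hom.isIso_app W.ι V (by rw [Scheme.Opens.opensRange_ι]; exact hVW)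
  exact (RingHom.Smooth.propertyIsLocal.respectsIso.cancel_right_isIso _ _).1 h1

theorem exists_divisor {X S : Scheme.{u}} (f : X ⟶ S) (x : X)
    (W : X.Opens) (hxW : x ∈ W) (hW : Smooth (W.ι ≫ f))
    (h : ↑(X.presheaf.stalk x)) (hd : letI := (f.stalkMap x).hom.toAlgebra
      (1 : IsLocalRing.ResidueField ↑(X.presheaf.stalk x)) ⊗ₜ[↑(X.presheaf.stalk x)]
          (KaehlerDifferential.D ↑(S.presheaf.stalk (f x)) ↑(X.presheaf.stalk x) h) ≠ 0) :
    ∃ (U : X.Opens) (hU : IsAffineOpen U) (hx : x ∈ U) (h' : Γ(X, U)), X.presheaf.germ U x hx h' = h ∧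
      h' ∈ nonZeroDivisors Γ(X, U) ∧
      Smooth (Spec.map (CommRingCat.ofHom (Ideal.Quotient.mk (Ideal.span {h'}))) ≫ hU.fromSpec ≫ f) := by
  obtain ⟨V₀, hxV₀, b₀, hb₀⟩ := X.presheaf.exists_germ_eq h
  obtain ⟨_, ⟨A, hA, rfl⟩, hsA, -⟩ :=
    S.isBasis_affineOpens.exists_subset_of_mem_open (Set.mem_univ (f x)) isOpen_univ
  obtain ⟨_, ⟨V, hV, rfl⟩, hxV, hVs⟩ :=
    X.isBasis_affineOpens.exists_subset_of_mem_open
      (show x ∈ V₀ ⊓ W ⊓ f ⁻¹ᵁ A from ⟨⟨hxV₀, hxW⟩, hsA⟩) (V₀ ⊓ W ⊓ f ⁻¹ᵁ A).2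
  have hVA : V ≤ f ⁻¹ᵁ A := fun z hz => (hVs hz).2
  let b : Γ(X, V) := X.presheaf.map (homOfLE (show V ≤ V₀ from fun z hz => (hVs hz).1.1)).op b₀
  have hsm := smooth_appLE_of_smooth_ι f W hW hA hV (fun z hz => (hVs hz).1.2) hVA
  let R := X.presheaf.stalk x
  let O := S.presheaf.stalk (f x)
  letI : Algebra Γ(S, A) Γ(X, V) := (f.appLE A V hVA).hom.toAlgebra
  haveI : Algebra.Smooth Γ(S, A) Γ(X, V) := hsm
  letI : Algebra Γ(X, V) R := X.presheaf.algebra_section_stalk ⟨x, hxV⟩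
  haveI : IsLocalization.AtPrime R (hV.primeIdealOf ⟨x, hxV⟩).asIdeal := hV.isLocalization_stalk ⟨x, hxV⟩
  letI : Algebra Γ(S, A) O := S.presheaf.algebra_section_stalk ⟨f x, hsA⟩
  letI : Algebra O R := (f.stalkMap x).hom.toAlgebra
  letI : Algebra Γ(S, A) R := ((f.stalkMap x).hom.comp (algebraMap Γ(S, A) O)).toAlgebra
  haveI : IsScalarTower Γ(S, A) O R := .of_algebraMap_eq' rfl
  haveI : IsScalarTower Γ(S, A) Γ(X, V) R := by
    refine .of_algebraMap_eq fun a => ?_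
    show (f.stalkMap x).hom ((S.presheaf.germ A (f x) hsA).hom a) =
      (X.presheaf.germ V x hxV).hom ((f.app A ≫ X.presheaf.map (homOfLE hVA).op).hom a)
    rw [← CommRingCat.comp_apply, Scheme.Hom.germ_stalkMap, ← CommRingCat.comp_apply, Category.assoc]
    erw [X.presheaf.germ_res]
  haveI : Algebra.FormallySmooth Γ(X, V) R :=
    Algebra.FormallySmooth.of_isLocalization (hV.primeIdealOf ⟨x, hxV⟩).asIdeal.primeCompl
  haveI : Algebra.FormallySmooth Γ(S, A) R := .comp _ Γ(X, V) _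
  have hbh : algebraMap Γ(X, V) R b = h := by
    rw [← hb₀]
    exact X.presheaf.germ_res_apply _ x hxV b₀
  have hd' : (1 : IsLocalRing.ResidueField R) ⊗ₜ[R] KaehlerDifferential.D Γ(S, A) R (algebraMap Γ(X, V) R b) ≠ 0 := by
    intro h0
    refine hd ?_
    have h1 := congrArg ((KaehlerDifferential.map Γ(S, A) O R R).lTensor (IsLocalRing.ResidueField R)) h0
    rw [LinearMap.lTensor_tmul, KaehlerDifferential.map_D, map_zero, hbh] at h1
    exact h1
  obtain ⟨g, hg, hC⟩ := exists_slice (A := Γ(S, A)) (hV.primeIdealOf ⟨x, hxV⟩).asIdeal R b hd'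
  have hxg : x ∈ X.basicOpen g := by
    rw [X.mem_basicOpen _ x hxV]
    exact IsLocalization.map_units (M := (hV.primeIdealOf ⟨x, hxV⟩).asIdeal.primeCompl) R ⟨g, hg⟩
  letI : Algebra Γ(S, A) Γ(X, X.basicOpen g) :=
    ((algebraMap Γ(X, V) Γ(X, X.basicOpen g)).comp (algebraMap Γ(S, A) Γ(X, V))).toAlgebra
  haveI : IsScalarTower Γ(S, A) Γ(X, V) Γ(X, X.basicOpen g) := .of_algebraMap_eq' rfl
  haveI := hV.isLocalization_basicOpen g
  obtain ⟨hnzd, hsmC⟩ := hC Γ(X, X.basicOpen g)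
  refine ⟨X.basicOpen g, hV.basicOpen g, hxg, algebraMap Γ(X, V) Γ(X, X.basicOpen g) b, ?_, hnzd, ?_⟩
  · refine Eq.trans ?_ hbh
    exact X.presheaf.germ_res_apply (homOfLE (X.basicOpen_le g)) x hxg b
  · have he : X.basicOpen g ≤ f ⁻¹ᵁ A := (X.basicOpen_le g).trans hVA
    rw [← hA.SpecMap_appLE_fromSpec f (hV.basicOpen g) he, ← Category.assoc, ← Spec.map_comp]
    haveI : IsOpenImmersion hA.fromSpec := hA.isOpenImmersion_fromSpec
    haveI : Smooth (Spec.map (f.appLE A (X.basicOpen g) he ≫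
        CommRingCat.ofHom (Ideal.Quotient.mk (Ideal.span {algebraMap Γ(X, V) Γ(X, X.basicOpen g) b})))) := by
      rw [HasRingHomProperty.Spec_iff (P := @Smooth)]
      have h2 := RingHom.smooth_algebraMap.2 hsmC
      convert! h2 using 1
      rw [IsScalarTower.algebraMap_eq Γ(S, A) Γ(X, X.basicOpen g) (Γ(X, X.basicOpen g) ⧸ _)]
      show (Ideal.Quotient.mk _).comp (f.appLE A (X.basicOpen g) he).hom =
        (Ideal.Quotient.mk _).comp ((X.presheaf.map (homOfLE (X.basicOpen_le g)).op).hom.comp (f.appLE A V hVA).hom)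
      rw [← CommRingCat.hom_comp (f.appLE A V hVA), Scheme.Hom.appLE_map]
    infer_instance

end Groth.Agent.SmoothCartier
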