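import Groth.Agent.SmoothPair.Basic
import Mathlib

/-!
A function with nonvanishing differential on a smooth algebra cuts out a smooth effective Cartier divisor.
-/

set_option linter.style.haveILetI false

universe u

open TensorProduct KaehlerDifferential

namespace Groth.Agent.SmoothCartier

theorem exists_etale_coordinates {A B : Type u} [CommRing A] [CommRing B] [Algebra A B] [Algebra.FinitePresentation A B]
    (q : Ideal B) [q.IsPrime] (R : Type u) [CommRing R] [IsLocalRing R] [Algebra A R] [Algebra B R]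
    [IsScalarTower A B R] [IsLocalization.AtPrime R q] [Algebra.FormallySmooth A R] {r : ℕ} (g : Fin r → B)
    (hvli : LinearIndependent (IsLocalRing.ResidueField R) fun i =>
      (1 : IsLocalRing.ResidueField R) ⊗ₜ[R] KaehlerDifferential.D A R (algebraMap B R (g i))) :
    ∃ (f : B) (_ : f ∉ q) (m : ℕ) (b : Fin m → B),
      letI := (MvPolynomial.aeval (Sum.elim g b) : MvPolynomial (Fin r ⊕ Fin m) A →ₐ[A] B).toRingHom.toAlgebra
      Algebra.Etale (MvPolynomial (Fin r ⊕ Fin m) A) (Localization.Away f) := by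
  classical
  let κ := IsLocalRing.ResidueField R
  haveI : Module.Finite R Ω[R⁄A] :=
    Module.Finite.of_isLocalizedModule q.primeCompl (KaehlerDifferential.map A A B R)
  haveI : Module.Projective R Ω[R⁄A] := inferInstance
  haveI : Module.FinitePresentation R Ω[R⁄A] := Module.finitePresentation_of_projective R _
  haveI : Module.Free R Ω[R⁄A] := Module.free_of_flat_of_isLocalRing
  let v : Fin r → κ ⊗[R] Ω[R⁄A] := fun i => 1 ⊗ₜ KaehlerDifferential.D A R (algebraMap B R (g i))
  let u : B → κ ⊗[R] Ω[R⁄A] := fun x => 1 ⊗ₜ KaehlerDifferential.D A R (algebraMap B R x)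
  have hu : Submodule.span κ (Set.range u) = ⊤ := by
    rw [eq_top_iff]
    rintro z -
    induction z using TensorProduct.induction_on with
    | zero => exact zero_mem _
    | add x y hx hy => exact add_mem hx hy
    | tmul c y =>
      have hy : y ∈ Submodule.span R (Set.range (KaehlerDifferential.map A A B R ∘ KaehlerDifferential.D A B)) := by
        rw [KaehlerDifferential.span_range_map_derivation_of_isLocalization A B R q.primeCompl]
        trivial
      rw [← mul_one c, ← smul_eq_mul, ← TensorProduct.smul_tmul']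
      refine Submodule.smul_mem _ _ ?_
      induction hy using Submodule.span_induction with
      | mem x hx =>
        obtain ⟨b, rfl⟩ := hx
        rw [Function.comp_apply, KaehlerDifferential.map_D]
        exact Submodule.subset_span ⟨b, rfl⟩
      | zero => rw [tmul_zero]; exact zero_mem _
      | add x y _ _ hx hy => rw [tmul_add]; exact add_mem hx hy
      | smul a x _ hx =>
        rw [tmul_smul, ← algebraMap_smul κ a]
        exact Submodule.smul_mem _ _ hx
  let V := Submodule.span κ (Set.range v)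
  let u' : B → (κ ⊗[R] Ω[R⁄A]) ⧸ V := V.mkQ ∘ u
  obtain ⟨ι, a, ha, hasp, hali⟩ := exists_linearIndependent' κ u'
  have hasp' : Submodule.span κ (Set.range (u' ∘ a)) = ⊤ := by
    rw [hasp, Set.range_comp, ← Submodule.map_span, hu, Submodule.map_top, Submodule.range_mkQ]
  let bι : Module.Basis ι κ _ := Module.Basis.mk hali hasp'.ge
  haveI : Finite ι := Module.Finite.finite_basis bι
  obtain ⟨m, ⟨em⟩⟩ := Finite.exists_equiv_fin ι
  let b : Fin m → B := a ∘ em.symm
  let W : Fin r ⊕ Fin m → κ ⊗[R] Ω[R⁄A] := u ∘ Sum.elim g b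
  have hWspan : ⊤ ≤ Submodule.span κ (Set.range W) := by
    rw [top_le_iff]
    have h1 : Set.range W = Set.range v ∪ Set.range (u ∘ b) := by
      rw [show W = Sum.elim v (u ∘ b) from funext fun i => by cases i <;> rfl, Set.Sum.elim_range]
    rw [h1, Submodule.span_union]
    refine (Submodule.map_mkQ_eq_top V _).1 ?_
    rw [Submodule.map_span, ← Set.range_comp]
    have h2 : Set.range (V.mkQ ∘ u ∘ b) = Set.range (u' ∘ a) := by
      rw [show V.mkQ ∘ u ∘ b = (u' ∘ a) ∘ em.symm from rfl]
      exact em.symm.surjective.range_comp _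
    rw [h2, hasp']
  have hWli : LinearIndependent κ W := by
    refine linearIndependent_of_top_le_span_of_card_eq_finrank hWspan ?_
    rw [Fintype.card_sum, ← Submodule.finrank_quotient_add_finrank V,
      Module.finrank_eq_card_basis (bι.reindex em), finrank_span_eq_card hvli, add_comm]
  obtain ⟨bR, hbR⟩ := Module.exists_basis_of_basis_baseChange
    (fun i : Fin r ⊕ Fin m => KaehlerDifferential.D A R (algebraMap B R (Sum.elim g b i))) hWli
    (top_le_iff.1 hWspan)
    (Module.Flat.rTensor_preserves_injective_linearMap (IsLocalRing.maximalIdeal R).subtype Subtype.val_injective)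
  let P := MvPolynomial (Fin r ⊕ Fin m) A
  letI : Algebra P B := (MvPolynomial.aeval (Sum.elim g b) : P →ₐ[A] B).toRingHom.toAlgebra
  haveI : IsScalarTower A P B :=
    IsScalarTower.of_algebraMap_eq fun x => ((MvPolynomial.aeval (Sum.elim g b) : P →ₐ[A] B).commutes x).symm
  haveI : Algebra.FinitePresentation P B := Algebra.FinitePresentation.of_restrict_scalars_finitePresentation A P B
  letI : Algebra P R := ((algebraMap B R).comp (algebraMap P B)).toAlgebra
  haveI : IsScalarTower P B R := IsScalarTower.of_algebraMap_eq' rfl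
  haveI : IsScalarTower A P R := IsScalarTower.of_algebraMap_eq fun x => by
    rw [IsScalarTower.algebraMap_apply P B R, ← IsScalarTower.algebraMap_apply A P B, ← IsScalarTower.algebraMap_apply]
  haveI hEt : Algebra.FormallyEtale P R := SmoothPair.formallyEtale_of_basis bR fun i => by
    rw [hbR, IsScalarTower.algebraMap_apply P B R]
    show _ = KaehlerDifferential.D A R (algebraMap B R (MvPolynomial.aeval (Sum.elim g b) (MvPolynomial.X i)))
    rw [MvPolynomial.aeval_X]
  haveI : Algebra.IsEtaleAt P q :=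
    Algebra.FormallyEtale.of_equiv ((IsLocalization.algEquiv q.primeCompl R (Localization.AtPrime q)).restrictScalars P)
  obtain ⟨f, hf, hfe⟩ := Algebra.exists_etale_of_isEtaleAt (R := P) q
  exact ⟨f, hf, m, b, hfe⟩

theorem smooth_quotient_X {A : Type u} [CommRing A] (m : ℕ) :
    Algebra.Smooth A (MvPolynomial (Fin 1 ⊕ Fin m) A ⧸
      Ideal.span {(MvPolynomial.X (Sum.inl 0) : MvPolynomial (Fin 1 ⊕ Fin m) A)}) := by
  let P := MvPolynomial (Fin 1 ⊕ Fin m) A
  let I : Ideal P := Ideal.span {(MvPolynomial.X (Sum.inl 0) : P)}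
  let ev : P →ₐ[A] MvPolynomial (Fin m) A := MvPolynomial.aeval (Sum.elim (fun _ => 0) MvPolynomial.X)
  have hev : ∀ x ∈ I, ev x = 0 := by
    intro x hx
    obtain ⟨c, rfl⟩ := Ideal.mem_span_singleton'.1 hx
    rw [map_mul, show ev (MvPolynomial.X (Sum.inl 0)) = 0 from MvPolynomial.aeval_X _ _, mul_zero]
  let toM : (P ⧸ I) →ₐ[A] MvPolynomial (Fin m) A := Ideal.Quotient.liftₐ I ev hev
  let inv : MvPolynomial (Fin m) A →ₐ[A] P ⧸ I :=
    MvPolynomial.aeval fun j => Ideal.Quotient.mk I (MvPolynomial.X (Sum.inr j))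
  have h1 : toM.comp inv = AlgHom.id A _ := by
    refine MvPolynomial.algHom_ext fun j => ?_
    rw [AlgHom.comp_apply, MvPolynomial.aeval_X, AlgHom.id_apply]
    exact MvPolynomial.aeval_X _ _
  have h2 : inv.comp toM = AlgHom.id A _ := by
    refine Ideal.Quotient.algHom_ext A ?_
    refine MvPolynomial.algHom_ext fun j => ?_
    show inv (ev (MvPolynomial.X j)) = Ideal.Quotient.mk I (MvPolynomial.X j)
    rw [show ev (MvPolynomial.X j) = _ from MvPolynomial.aeval_X _ _]
    rcases j with j | j
    · have hj : (MvPolynomial.X (Sum.inl j) : P) ∈ I :=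
        Ideal.mem_span_singleton'.2 ⟨1, by rw [one_mul, Subsingleton.elim j 0]⟩
      rw [Sum.elim_inl, (Ideal.Quotient.eq_zero_iff_mem (I := I)).2 hj]
      exact map_zero inv
    · rw [Sum.elim_inr]
      exact MvPolynomial.aeval_X _ _
  haveI : Algebra.Smooth A (MvPolynomial (Fin m) A) := ⟨inferInstance, inferInstance⟩
  exact Algebra.Smooth.of_equiv (AlgEquiv.ofAlgHom toM inv h1 h2).symm

/-- A function with nonzero differential at a smooth point is, nearby, a nonzerodivisor with smooth zero locus. -/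
theorem exists_slice {A B : Type u} [CommRing A] [CommRing B] [Algebra A B] [Algebra.FinitePresentation A B]
    (q : Ideal B) [q.IsPrime] (R : Type u) [CommRing R] [IsLocalRing R] [Algebra A R] [Algebra B R]
    [IsScalarTower A B R] [IsLocalization.AtPrime R q] [Algebra.FormallySmooth A R] (h : B)
    (hd : (1 : IsLocalRing.ResidueField R) ⊗ₜ[R] KaehlerDifferential.D A R (algebraMap B R h) ≠ 0) :
    ∃ f : B, f ∉ q ∧ ∀ (C : Type u) [CommRing C] [Algebra A C] [Algebra B C] [IsScalarTower A B C]
      [IsLocalization.Away f C],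
      algebraMap B C h ∈ nonZeroDivisors C ∧ Algebra.Smooth A (C ⧸ Ideal.span {algebraMap B C h}) := by
  obtain ⟨f, hf, m, b, het⟩ := exists_etale_coordinates q R (r := 1) (fun _ => h)
    (linearIndependent_unique_iff.2 hd)
  refine ⟨f, hf, fun C _ _ _ _ _ => ?_⟩
  let P := MvPolynomial (Fin 1 ⊕ Fin m) A
  letI algPB : Algebra P B := (MvPolynomial.aeval (Sum.elim (fun _ : Fin 1 => h) b) : P →ₐ[A] B).toRingHom.toAlgebra
  letI : Algebra P C := ((algebraMap B C).comp (algebraMap P B)).toAlgebra
  haveI : IsScalarTower P B C := IsScalarTower.of_algebraMap_eq' rfl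
  haveI : Algebra.Etale P (Localization.Away f) := het
  haveI : Algebra.Etale P C :=
    Algebra.Etale.of_equiv ((IsLocalization.algEquiv (Submonoid.powers f) (Localization.Away f) C).restrictScalars P)
  haveI : IsScalarTower A P B :=
    IsScalarTower.of_algebraMap_eq fun x => ((MvPolynomial.aeval (Sum.elim (fun _ : Fin 1 => h) b) : P →ₐ[A] B).commutes x).symm
  haveI : IsScalarTower A P C := IsScalarTower.of_algebraMap_eq fun x => by
    rw [IsScalarTower.algebraMap_apply P B C, ← IsScalarTower.algebraMap_apply A P B, ← IsScalarTower.algebraMap_apply]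
  let T : P := MvPolynomial.X (Sum.inl 0)
  have hT : algebraMap P C T = algebraMap B C h := by
    rw [IsScalarTower.algebraMap_apply P B C]
    show algebraMap B C (MvPolynomial.aeval (Sum.elim (fun _ : Fin 1 => h) b) (MvPolynomial.X (Sum.inl 0))) = _
    rw [MvPolynomial.aeval_X]; rfl
  constructor
  · have hreg : RingTheory.Sequence.IsWeaklyRegular P [T] := by
      rw [RingTheory.Sequence.isWeaklyRegular_singleton_iff]
      intro x y hxy
      simp only [smul_eq_mul, T] at hxy
      exact sub_eq_zero.1 (by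
        have h0 : MvPolynomial.X (Sum.inl 0) * (x - y) = 0 := by rw [mul_sub, hxy, sub_self]
        ext d
        have := congrArg (MvPolynomial.coeff (Finsupp.single (Sum.inl 0) 1 + d)) h0
        rwa [MvPolynomial.coeff_X_mul, MvPolynomial.coeff_zero, ← MvPolynomial.coeff_zero d] at this)
    haveI : Module.Flat P C := inferInstance
    have h1 := hreg.of_flat (S := C)
    rw [List.map_singleton, RingTheory.Sequence.isWeaklyRegular_singleton_iff, hT] at h1
    refine mem_nonZeroDivisors_iff_right.2 fun x hx => h1 (a₂ := 0) ?_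
    show algebraMap B C h • x = algebraMap B C h • (0 : C)
    rw [smul_eq_mul, mul_comm, hx, smul_zero]
  · let I : Ideal P := Ideal.span {T}
    haveI : Algebra.Smooth A (P ⧸ I) := smooth_quotient_X m
    haveI : Algebra.Smooth (P ⧸ I) ((P ⧸ I) ⊗[P] C) := inferInstance
    haveI : Algebra.Smooth A ((P ⧸ I) ⊗[P] C) := Algebra.Smooth.comp A (P ⧸ I) _
    have hI : I.map (algebraMap P C) = Ideal.span {algebraMap B C h} := by
      rw [Ideal.map_span, Set.image_singleton, hT]
    let e : (P ⧸ I) ⊗[P] C ≃ₐ[A] C ⧸ Ideal.span {algebraMap B C h} :=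
      ((Algebra.TensorProduct.comm P (P ⧸ I) C).restrictScalars A).trans
        ((((Algebra.TensorProduct.quotIdealMapEquivTensorQuot C I).symm).restrictScalars A).trans
          (Ideal.quotientEquivAlgOfEq A hI))
    exact Algebra.Smooth.of_equiv (A := (P ⧸ I) ⊗[P] C) e

/-- If all differentials of the maximal ideal vanish in the fibre, a formally smooth residue extension
forces the closed fibre to be a field. -/
theorem maximalIdeal_le_map {O T : Type u} [CommRing O] [IsLocalRing O] [CommRing T] [IsLocalRing T]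
    [Algebra O T] [IsLocalHom (algebraMap O T)]
    (hfs : Algebra.FormallySmooth (IsLocalRing.ResidueField O) (IsLocalRing.ResidueField T))
    (hN : IsNoetherianRing (T ⧸ (IsLocalRing.maximalIdeal O).map (algebraMap O T)))
    (hD : ∀ h ∈ IsLocalRing.maximalIdeal T,
      (1 : IsLocalRing.ResidueField T) ⊗ₜ[T] KaehlerDifferential.D O T h = 0) :
    IsLocalRing.maximalIdeal T ≤ (IsLocalRing.maximalIdeal O).map (algebraMap O T) := by
  let κO := IsLocalRing.ResidueField O
  let κ := IsLocalRing.ResidueField T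
  let I : Ideal T := (IsLocalRing.maximalIdeal O).map (algebraMap O T)
  let J : Ideal T := I ⊔ IsLocalRing.maximalIdeal T ^ 2
  have hIm : I ≤ IsLocalRing.maximalIdeal T := Ideal.map_le_iff_le_comap.2 fun a ha hu => ha (hu.of_map _ _)
  have hJm : J ≤ IsLocalRing.maximalIdeal T := sup_le hIm (Ideal.pow_le_self two_ne_zero)
  letI : Algebra κO (T ⧸ J) := (Ideal.Quotient.lift (IsLocalRing.maximalIdeal O) ((Ideal.Quotient.mk J).comp (algebraMap O T))
    fun a ha => Ideal.Quotient.eq_zero_iff_mem.2 (Ideal.mem_sup_left (Ideal.mem_map_of_mem _ ha))).toAlgebra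
  letI : Algebra (T ⧸ J) κ := (Ideal.Quotient.lift J (IsLocalRing.residue T)
    fun a ha => (IsLocalRing.residue_eq_zero_iff a).2 (hJm ha)).toAlgebra
  haveI : IsScalarTower O κO (T ⧸ J) := IsScalarTower.of_algebraMap_eq fun _ => rfl
  haveI : IsScalarTower T (T ⧸ J) κ := IsScalarTower.of_algebraMap_eq fun _ => rfl
  haveI : IsScalarTower κO (T ⧸ J) κ := IsScalarTower.of_algebraMap_eq fun x => by
    obtain ⟨x, rfl⟩ := IsLocalRing.residue_surjective x
    rfl
  haveI : SMulCommClass κO T (T ⧸ J) := inferInstance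
  have hsurj : Function.Surjective (algebraMap (T ⧸ J) κ) := fun y => by
    obtain ⟨y, rfl⟩ := IsLocalRing.residue_surjective y
    exact ⟨Ideal.Quotient.mk J y, rfl⟩
  have hsq : RingHom.ker (algebraMap (T ⧸ J) κ) ^ 2 = ⊥ := by
    rw [eq_bot_iff, pow_two, Ideal.mul_le]
    intro a ha b hb
    obtain ⟨a, rfl⟩ := Ideal.Quotient.mk_surjective a
    obtain ⟨b, rfl⟩ := Ideal.Quotient.mk_surjective b
    rw [Ideal.mem_bot, ← map_mul, Ideal.Quotient.eq_zero_iff_mem]
    refine Ideal.mem_sup_right ?_
    rw [pow_two]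
    exact Ideal.mul_mem_mul ((IsLocalRing.residue_eq_zero_iff a).1 ha) ((IsLocalRing.residue_eq_zero_iff b).1 hb)
  have hinj : Function.Injective (KaehlerDifferential.kerToTensor κO (T ⧸ J) κ) := by
    haveI : Algebra.FormallySmooth κO κ := hfs
    have hnil : IsNilpotent (RingHom.ker (IsScalarTower.toAlgHom κO (T ⧸ J) κ).toRingHom) :=
      ⟨2, by rw [Submodule.zero_eq_bot]; exact hsq⟩
    let σ := Algebra.FormallySmooth.liftOfSurjective (AlgHom.id κO κ) (IsScalarTower.toAlgHom κO (T ⧸ J) κ) hsurj hnil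
    have hσ : (IsScalarTower.toAlgHom κO (T ⧸ J) κ).comp σ = AlgHom.id κO κ :=
      Algebra.FormallySmooth.comp_liftOfSurjective _ _ _ _
    let r := (retractionKerToTensorEquivSection (R := κO) (P := T ⧸ J) (S := κ) hsq hsurj).symm ⟨σ, hσ⟩
    exact Function.LeftInverse.injective (g := r.1) fun x => LinearMap.congr_fun r.2 x
  have hle : IsLocalRing.maximalIdeal T ≤ J := by
    intro h hh
    let L : Ω[T⁄O] →ₗ[T] κ ⊗[T ⧸ J] Ω[(T ⧸ J)⁄κO] :=
      ((TensorProduct.mk (T ⧸ J) κ Ω[(T ⧸ J)⁄κO] 1).restrictScalars T).comp (KaehlerDifferential.map O κO T (T ⧸ J))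
    have h1 : L.liftBaseChange κ ((1 : κ) ⊗ₜ[T] KaehlerDifferential.D O T h) = 0 := by rw [hD h hh, map_zero]
    simp only [LinearMap.liftBaseChange_tmul, one_smul, L, LinearMap.comp_apply, KaehlerDifferential.map_D] at h1
    have h2 : KaehlerDifferential.kerToTensor κO (T ⧸ J) κ ⟨Ideal.Quotient.mk J h, (IsLocalRing.residue_eq_zero_iff h).2 hh⟩ = 0 := by
      rw [KaehlerDifferential.kerToTensor_apply]
      exact h1
    exact Ideal.Quotient.eq_zero_iff_mem.1 (congrArg Subtype.val ((injective_iff_map_eq_zero _).1 hinj _ h2))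
  haveI := hN
  haveI : Nontrivial (T ⧸ I) := Ideal.Quotient.nontrivial_iff.2 fun e =>
    (IsLocalRing.maximalIdeal.isMaximal T).ne_top (top_unique (e ▸ hIm))
  haveI : IsLocalRing (T ⧸ I) := IsLocalRing.of_surjective' (Ideal.Quotient.mk I) Ideal.Quotient.mk_surjective
  let M : Ideal (T ⧸ I) := (IsLocalRing.maximalIdeal T).map (Ideal.Quotient.mk I)
  have hM2 : M ≤ M • M := by
    rw [smul_eq_mul, ← Ideal.map_mul, ← pow_two]
    refine (Ideal.map_mono hle).trans ?_
    rw [Ideal.map_sup, Ideal.map_quotient_self, bot_sup_eq]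
  have hMjac : M ≤ Ideal.jacobson ⊥ := by
    rw [IsLocalRing.jacobson_eq_maximalIdeal ⊥ bot_ne_top]
    exact IsLocalRing.le_maximalIdeal fun e => by
      have := congrArg (Ideal.comap (Ideal.Quotient.mk I)) e
      rw [Ideal.comap_map_of_surjective' _ Ideal.Quotient.mk_surjective, Ideal.mk_ker, sup_eq_left.2 hIm, Ideal.comap_top] at this
      exact (IsLocalRing.maximalIdeal.isMaximal T).ne_top this
  have hMbot : M = ⊥ := Submodule.eq_bot_of_le_smul_of_le_jacobson_bot M M (IsNoetherian.noetherian M) hM2 hMjac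
  intro x hx
  have hx' : Ideal.Quotient.mk I x ∈ M := Ideal.mem_map_of_mem _ hx
  rw [hMbot, Submodule.mem_bot] at hx'
  exact Ideal.Quotient.eq_zero_iff_mem.1 hx'

end Groth.Agent.SmoothCartier
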